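import Groth.Agent.L10.Hyper.Exists
import Mathlib.CategoryTheory.Limits.Shapes.FiniteLimits
import Mathlib.CategoryTheory.Limits.Shapes.FiniteProducts
import Mathlib.CategoryTheory.Limits.Shapes.Equalizers
import Mathlib.CategoryTheory.Limits.Constructions.LimitsOfProductsAndEqualizers
import Mathlib.CategoryTheory.Limits.Constructions.Over.Basic
import Mathlib.Data.Set.Finite.Lattice

/-! Hypercoverings by finite families of objects of a class covering every object by finite families. -/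

universe u

open CategoryTheory CategoryTheory.Limits Opposite Simplicial

set_option backward.defeqAttrib.useBackward true
set_option backward.isDefEq.respectTransparency false

noncomputable section

namespace Groth.L19.Hyper

open Groth.L10.Hyper

variable {D : Type u} [SmallCategory D] {B : Set D}

/-- restriction of a cell along a map of simplices -/
abbrev face {Δ Δ' : SimplexCategory} (θ : Δ ⟶ Δ') (c : Cell B Δ') : Cell B Δ := ((cellObj B).map θ.op).f c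

theorem face_comp {Δ Δ' Δ'' : SimplexCategory} (θ : Δ ⟶ Δ') (θ' : Δ' ⟶ Δ'') (c : Cell B Δ'') :
    face (θ ≫ θ') c = face θ (face θ' c) := by
  show ((cellObj B).map (θ ≫ θ').op).f c = _
  rw [op_comp, Functor.map_comp]
  rfl

variable [HasFiniteLimits D]

/-- a universal compatible boundary with given cells -/
theorem exists_universal {n : ℕ} (c : Fin (n + 2) → Cell B ⦋n⦌)
    (hne : ∃ (U : D) (y : Fin (n + 2) → ((FormalCoproduct.incl D).obj U ⟶ (cellObj B) _⦋n⦌)),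
      Compat y ∧ ∀ j, (y j).f PUnit.unit = c j) :
    ∃ (U₀ : D) (y₀ : Fin (n + 2) → ((FormalCoproduct.incl D).obj U₀ ⟶ (cellObj B) _⦋n⦌)),
      Compat y₀ ∧ (∀ j, (y₀ j).f PUnit.unit = c j) ∧
      ∀ (U : D) (y : Fin (n + 2) → ((FormalCoproduct.incl D).obj U ⟶ (cellObj B) _⦋n⦌)), Compat y →
        (∀ j, (y j).f PUnit.unit = c j) → ∃ r : U ⟶ U₀, ∀ j, y j = (FormalCoproduct.incl D).map r ≫ y₀ j := by
  let Z : Fin (n + 2) → D := fun j => (c j).1.obj (topS _)
  let P := ∏ᶜ Z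
  have hy_eq : ∀ (U : D) (y : Fin (n + 2) → ((FormalCoproduct.incl D).obj U ⟶ (cellObj B) _⦋n⦌))
      (hy : ∀ j, (y j).f PUnit.unit = c j), ∃ t : U ⟶ P,
        ∀ j, y j = FormalCoproduct.Hom.fromIncl (c j) (t ≫ Pi.π Z j) := by
    intro U y hy
    refine ⟨Pi.lift fun j => (y j).φ PUnit.unit ≫ eqToHom (congrArg (fun x : Cell B ⦋n⦌ => x.1.obj (topS _)) (hy j)),
      fun j => ?_⟩
    rw [FormalCoproduct.hom_ext_iff']
    intro x
    refine ⟨hy j, ?_⟩
    simp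
    rfl
  cases n with
  | zero =>
    refine ⟨P, fun j => FormalCoproduct.Hom.fromIncl (c j) (Pi.π Z j), fun m e => absurd e (by omega), fun j => rfl,
      fun U y _ hy => ?_⟩
    obtain ⟨t, ht⟩ := hy_eq U y hy
    refine ⟨t, fun j => (ht j).trans ?_⟩
    rw [FormalCoproduct.hom_ext_iff']
    intro x
    exact ⟨rfl, by simp⟩
  | succ m =>
    let Q := {q : Fin (m + 2) × Fin (m + 2) // q.1 ≤ q.2}
    obtain ⟨U₁, y₁, hy₁, hy₁'⟩ := hne
    have hc : ∀ q : Q, face (SimplexCategory.δ q.1.1) (c q.1.2.succ) = face (SimplexCategory.δ q.1.2) (c q.1.1.castSucc) := by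
      intro q
      have h := hy₁ m rfl q.1.1 q.1.2 q.2
      simp only [Fin.cast_refl, id_eq] at h
      have h' := congrArg (fun t => t.f PUnit.unit) h
      change face (SimplexCategory.δ q.1.1) ((y₁ q.1.2.succ).f PUnit.unit) =
        face (SimplexCategory.δ q.1.2) ((y₁ q.1.1.castSucc).f PUnit.unit) at h'
      rwa [hy₁', hy₁'] at h'
    let W : Q → D := fun q => (face (SimplexCategory.δ q.1.2) (c q.1.1.castSucc)).1.obj (topS _)
    let a : ∀ q : Q, P ⟶ W q := fun q => Pi.π Z q.1.2.succ ≫ ((cellObj B).map (SimplexCategory.δ q.1.1).op).φ _ ≫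
      eqToHom (congrArg (fun x : Cell B ⦋m⦌ => x.1.obj (topS _)) (hc q))
    let b : ∀ q : Q, P ⟶ W q := fun q => Pi.π Z q.1.1.castSucc ≫ ((cellObj B).map (SimplexCategory.δ q.1.2).op).φ _
    let U₀ := equalizer (Pi.lift a) (Pi.lift b)
    let ι : U₀ ⟶ P := equalizer.ι _ _
    refine ⟨U₀, fun j => FormalCoproduct.Hom.fromIncl (c j) (ι ≫ Pi.π Z j), ?_, fun j => rfl, fun U y hyc hy => ?_⟩
    · rintro m' e i j hij
      obtain rfl : m = m' := by omega
      simp only [Fin.cast_refl, id_eq]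
      rw [FormalCoproduct.hom_ext_iff']
      intro x
      refine ⟨hc ⟨(i, j), hij⟩, ?_⟩
      have h := congrArg (fun t => ι ≫ t) (Pi.lift_π a (⟨(i, j), hij⟩ : Q))
      have h' : ι ≫ a ⟨(i, j), hij⟩ = ι ≫ b ⟨(i, j), hij⟩ := by
        rw [← h, ← Category.assoc, equalizer.condition, Category.assoc, Pi.lift_π]
      simp only [a, b] at h'
      simp only [FormalCoproduct.category_comp_φ, Category.assoc]
      exact (Category.assoc _ _ _).trans (h'.trans (Category.assoc _ _ _).symm)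
    · obtain ⟨t, ht⟩ := hy_eq U y hy
      refine ⟨equalizer.lift t (limit.hom_ext fun ⟨q⟩ => ?_), fun j => (ht j).trans ?_⟩
      · simp only [Category.assoc, limit.lift_π, Fan.mk_π_app]
        have h := hyc m rfl q.1.1 q.1.2 q.2
        simp only [Fin.cast_refl, id_eq] at h
        rw [ht, ht] at h
        obtain ⟨h₁, h₂⟩ := (FormalCoproduct.hom_ext_iff' _ _).1 h PUnit.unit
        simp only [FormalCoproduct.category_comp_φ, Category.assoc] at h₂
        simp only [a, b]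
        refine Eq.trans ?_ (h₂.trans ?_) <;> simp [Category.assoc]
        all_goals rfl
      · rw [FormalCoproduct.hom_ext_iff']
        intro x
        refine ⟨rfl, ?_⟩
        simp [ι]

variable (J : GrothendieckTopology D)

/-- Every object has a covering by a finite family of objects of `B`. -/
def FinCoversB (B : Set D) : Prop :=
  ∀ U : D, ∃ (ι : Type u) (_ : Finite ι) (W : ι → D) (b : ∀ i, W i ⟶ U), Sieve.ofArrows W b ∈ J U ∧ ∀ i, W i ∈ B

/-- finitely many cells fill all boundaries made of finitely many given cells -/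
theorem exists_new (hB : FinCoversB J B) {n : ℕ} (Cm : Set (Cell B ⦋n⦌)) (hCm : Cm.Finite) :
    ∃ N : Set (Cell B ⦋n + 1⦌), N.Finite ∧ (∀ c ∈ N, ∀ j, face (SimplexCategory.δ j) c ∈ Cm) ∧
      ∀ (U : D) (y : Fin (n + 2) → ((FormalCoproduct.incl D).obj U ⟶ (cellObj B) _⦋n⦌)), Compat y →
        (∀ j, (y j).f PUnit.unit ∈ Cm) → ∃ S ∈ J U, ∀ ⦃V⦄ (g : V ⟶ U), S g →
          ∃ w : (FormalCoproduct.incl D).obj V ⟶ (cellObj B) _⦋n + 1⦌, w.f PUnit.unit ∈ N ∧
            ∀ j, w ≫ (cellObj B).δ j = (FormalCoproduct.incl D).map g ≫ y j := by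
  classical
  haveI : Finite Cm := hCm.to_subtype
  let good : Set (Fin (n + 2) → Cell B ⦋n⦌) := {c | (∀ j, c j ∈ Cm) ∧
    ∃ (U : D) (y : Fin (n + 2) → ((FormalCoproduct.incl D).obj U ⟶ (cellObj B) _⦋n⦌)),
      Compat y ∧ ∀ j, (y j).f PUnit.unit = c j}
  have hgood : good.Finite := (Set.Finite.pi' fun _ => hCm).subset fun c hc => hc.1
  choose U₀ y₀ hy₀ hy₀c huniv using fun c : good => exists_universal c.1 c.2.2
  choose ι hι W b hcov hW using fun c : good => hB (U₀ c)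
  choose w hw using fun (c : good) (i : ι c) => exists_fill (b := b c i) (hy₀ c) (hW c i)
  haveI : Finite good := hgood.to_subtype
  refine ⟨Set.range fun p : Σ c : good, ι c => (w p.1 p.2).f PUnit.unit, Set.finite_range _, ?_, fun U y hy hym => ?_⟩
  · rintro _ ⟨⟨c, i⟩, rfl⟩ j
    have h := congrArg (fun t => t.f PUnit.unit) (hw c i j)
    change face (SimplexCategory.δ j) ((w c i).f PUnit.unit) = (y₀ c j).f PUnit.unit at h
    rw [h, hy₀c]
    exact c.2.1 j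
  · let c : good := ⟨fun j => (y j).f PUnit.unit, hym, U, y, hy, fun _ => rfl⟩
    obtain ⟨r, hr⟩ := huniv c U y hy fun _ => rfl
    refine ⟨_, J.pullback_stable r (hcov c), fun V g hg => ?_⟩
    obtain ⟨i, q, hq⟩ := (Sieve.mem_ofArrows_iff _ _ _).1 hg
    refine ⟨(FormalCoproduct.incl D).map q ≫ w c i, ⟨⟨c, i⟩, rfl⟩, fun j => ?_⟩
    rw [Category.assoc, hw c i j, hr j, ← Category.assoc, ← Category.assoc, ← Functor.map_comp, ← Functor.map_comp, hq]

/-- cells obtained from a set of cells by maps of simplices -/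
def gen (S : Set (Σ k : ℕ, Cell B ⦋k⦌)) (Δ : SimplexCategory) : Set (Cell B Δ) :=
  {c | ∃ p ∈ S, ∃ θ : Δ ⟶ ⦋p.1⦌, face θ p.2 = c}

omit [HasFiniteLimits D] in
theorem gen_finite {S : Set (Σ k : ℕ, Cell B ⦋k⦌)} (hS : S.Finite) (Δ : SimplexCategory) : (gen S Δ).Finite := by
  haveI : Finite S := hS.to_subtype
  refine (Set.finite_range fun q : Σ p : S, (Δ ⟶ ⦋p.1.1⦌) => face q.2 q.1.1.2).subset ?_
  rintro c ⟨p, hp, θ, rfl⟩
  exact ⟨⟨⟨p, hp⟩, θ⟩, rfl⟩

omit [HasFiniteLimits D] in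
theorem gen_face {S : Set (Σ k : ℕ, Cell B ⦋k⦌)} {Δ Δ' : SimplexCategory} {c : Cell B Δ'} (h : c ∈ gen S Δ')
    (θ : Δ ⟶ Δ') : face θ c ∈ gen S Δ := by
  obtain ⟨p, hp, θ', rfl⟩ := h
  exact ⟨p, hp, θ ≫ θ', face_comp θ θ' p.2⟩

variable {J} (hB : FinCoversB J B) (V₀ : Set (Cell B ⦋0⦌)) (hV₀ : V₀.Finite)

/-- the generating cells, degree by degree -/
def lev : ℕ → {S : Set (Σ k : ℕ, Cell B ⦋k⦌) // S.Finite}
  | 0 => ⟨Sigma.mk 0 '' V₀, hV₀.image _⟩
  | n + 1 => ⟨(lev n).1 ∪ Sigma.mk (n + 1) '' (exists_new J hB _ (gen_finite (lev n).2 ⦋n⦌)).choose,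
      (lev n).2.union ((exists_new J hB _ (gen_finite (lev n).2 ⦋n⦌)).choose_spec.1.image _)⟩

theorem lev_mono {n n' : ℕ} (h : n ≤ n') : (lev hB V₀ hV₀ n).1 ⊆ (lev hB V₀ hV₀ n').1 := by
  induction h with
  | refl => exact subset_rfl
  | step _ ih => exact ih.trans Set.subset_union_left

theorem gen_lev_le (n : ℕ) : ∀ (Δ : SimplexCategory), gen (lev hB V₀ hV₀ n).1 Δ ⊆ gen (lev hB V₀ hV₀ Δ.len).1 Δ := by
  induction n with
  | zero =>
    rintro Δ c ⟨p, hp, θ, rfl⟩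
    exact ⟨p, lev_mono hB V₀ hV₀ (Nat.zero_le _) hp, θ, rfl⟩
  | succ n ih =>
    rintro Δ c ⟨p, hp, θ, rfl⟩
    by_cases hle : n + 1 ≤ Δ.len
    · exact ⟨p, lev_mono hB V₀ hV₀ hle hp, θ, rfl⟩
    rcases hp with hp | ⟨e, he, rfl⟩
    · exact ih Δ ⟨p, hp, θ, rfl⟩
    obtain ⟨j, β, hβ⟩ := exists_factor (show Δ.len ≤ n by omega) θ
    refine ih Δ ?_
    show face θ e ∈ _
    rw [hβ, face_comp]
    exact gen_face ((exists_new J hB _ (gen_finite (lev hB V₀ hV₀ n).2 ⦋n⦌)).choose_spec.2.1 e he j) β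

/-- all cells generated -/
def cells (Δ : SimplexCategory) : Set (Cell B Δ) := gen (lev hB V₀ hV₀ Δ.len).1 Δ

theorem cells_face {Δ Δ' : SimplexCategory} {c : Cell B Δ'} (h : c ∈ cells hB V₀ hV₀ Δ') (θ : Δ ⟶ Δ') :
    face θ c ∈ cells hB V₀ hV₀ Δ :=
  gen_lev_le hB V₀ hV₀ _ Δ (gen_face h θ)

/-- the simplicial object of generated cells -/
def finObj : SimplicialObject (FormalCoproduct.{u} D) where
  obj Δ := ⟨{c : Cell B Δ.unop // c ∈ cells hB V₀ hV₀ Δ.unop}, fun c => c.1.1.obj (topS _)⟩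
  map {Δ Δ'} θ := ⟨fun c => ⟨((cellObj B).map θ).f c.1, cells_face hB V₀ hV₀ c.2 θ.unop⟩,
    fun c => ((cellObj B).map θ).φ c.1⟩
  map_id Δ := by
    rw [FormalCoproduct.hom_ext_iff']
    intro c
    obtain ⟨h₁, h₂⟩ := (FormalCoproduct.hom_ext_iff' _ _).1 ((cellObj B).map_id Δ) c.1
    exact ⟨Subtype.ext h₁, h₂⟩
  map_comp {Δ Δ' Δ''} θ θ' := by
    rw [FormalCoproduct.hom_ext_iff']
    intro c
    obtain ⟨h₁, h₂⟩ := (FormalCoproduct.hom_ext_iff' _ _).1 ((cellObj B).map_comp θ θ') c.1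
    exact ⟨Subtype.ext h₁, h₂⟩

/-- the inclusion in the simplicial object of all cells -/
def finIncl : finObj hB V₀ hV₀ ⟶ cellObj B where
  app Δ := ⟨fun c => c.1, fun c => 𝟙 _⟩
  naturality Δ Δ' θ := by
    rw [FormalCoproduct.hom_ext_iff']
    intro c
    exact ⟨rfl, by simp [finObj]⟩

theorem finIncl_injective {U : D} {Δ : SimplexCategoryᵒᵖ}
    (f g : (FormalCoproduct.incl D).obj U ⟶ (finObj hB V₀ hV₀).obj Δ)
    (h : f ≫ (finIncl hB V₀ hV₀).app Δ = g ≫ (finIncl hB V₀ hV₀).app Δ) : f = g := by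
  rw [FormalCoproduct.hom_ext_iff']
  intro x
  obtain ⟨h₁, h₂⟩ := (FormalCoproduct.hom_ext_iff' _ _).1 h x
  refine ⟨Subtype.ext h₁, ?_⟩
  simp [finIncl] at h₂
  exact h₂

theorem finObj_finite (Δ : SimplexCategoryᵒᵖ) : Finite ((finObj hB V₀ hV₀).obj Δ).I :=
  (gen_finite (lev hB V₀ hV₀ Δ.unop.len).2 Δ.unop).to_subtype

theorem finObj_mem {Δ : SimplexCategoryᵒᵖ} (i : ((finObj hB V₀ hV₀).obj Δ).I) :
    ((finObj hB V₀ hV₀).obj Δ).obj i ∈ B := i.1.2 _

theorem homFill_finObj : HomFill J (finObj hB V₀ hV₀) := fun n U y hy => by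
  let I := finIncl hB V₀ hV₀
  have hy' : Compat (fun j => y j ≫ I.app (op ⦋n⦌)) := by
    rintro m rfl i j hij
    have h := hy m rfl i j hij
    simp only [Fin.cast_refl, id_eq] at h ⊢
    have hn : ∀ k, (finObj hB V₀ hV₀).δ k ≫ I.app (op ⦋m⦌) = I.app (op ⦋m + 1⦌) ≫ (cellObj B).δ k :=
      fun k => I.naturality _
    rw [Category.assoc, Category.assoc, ← hn, ← hn, ← Category.assoc, ← Category.assoc, h]
  obtain ⟨-, hnew⟩ := (exists_new J hB _ (gen_finite (lev hB V₀ hV₀ n).2 ⦋n⦌)).choose_spec.2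
  obtain ⟨S, hS, h⟩ := hnew U _ hy' (fun j => ((y j).f PUnit.unit).2)
  refine ⟨S, hS, fun V g hg => ?_⟩
  obtain ⟨w, hwN, hw⟩ := h g hg
  have hmem : w.f PUnit.unit ∈ cells hB V₀ hV₀ ⦋n + 1⦌ :=
    ⟨⟨n + 1, w.f PUnit.unit⟩, Or.inr ⟨_, hwN, rfl⟩, 𝟙 _, by
      show ((cellObj B).map (𝟙 (⦋n + 1⦌ : SimplexCategory)).op).f _ = _
      rw [op_id, (cellObj B).map_id]
      rfl⟩
  let w' : (FormalCoproduct.incl D).obj V ⟶ (finObj hB V₀ hV₀) _⦋n + 1⦌ :=
    FormalCoproduct.Hom.fromIncl ⟨w.f PUnit.unit, hmem⟩ (w.φ PUnit.unit)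
  have hw' : w' ≫ I.app (op ⦋n + 1⦌) = w := by
    rw [FormalCoproduct.hom_ext_iff']
    intro x
    obtain rfl : x = PUnit.unit := rfl
    exact ⟨rfl, by simp [w', I, finIncl]⟩
  refine ⟨w', fun j => finIncl_injective hB V₀ hV₀ _ _ ?_⟩
  have hn : (finObj hB V₀ hV₀).δ j ≫ I.app (op ⦋n⦌) = I.app (op ⦋n + 1⦌) ≫ (cellObj B).δ j := I.naturality _
  rw [Category.assoc, hn, reassoc_of% hw', hw j, Category.assoc]

end Groth.L19.Hyper

namespace Groth.L19.Hyper

open Groth.L10.Hyper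

/-- A hypercovering by finite families of objects of a class covering every object by finite families. -/
theorem exists_finite_hypercovering {C : Type u} [SmallCategory C] [HasPullbacks C] {J : GrothendieckTopology C}
    {B : Set C}
    (hB : ∀ U : C, ∃ (ι : Type u) (_ : Finite ι) (Y : ι → C) (f : ∀ i, Y i ⟶ U),
      Sieve.ofArrows Y f ∈ J U ∧ ∀ i, Y i ∈ B) (X : C)
    [∀ (n : ℕ) (F : (SimplexCategory.Truncated n)ᵒᵖ ⥤ Limits.FormalCoproduct.{u} (Over X)),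
      (SimplexCategory.Truncated.inclusion n).op.HasRightKanExtension F] :
    ∃ K : SimplicialObject (FormalCoproduct.{u} (Over X)), _root_.Hyper.IsHypercovering J X K ∧
      ∀ n : ℕ, Finite (K.obj (op (SimplexCategory.mk n))).I ∧
        ∀ i, ((K.obj (op (SimplexCategory.mk n))).obj i).left ∈ B := by
  haveI : HasFiniteLimits (Over X) :=
    hasFiniteLimits_of_hasTerminal_and_pullbacks
  let B' : Set (Over X) := {T | T.left ∈ B}
  have hB' : FinCoversB (J.over X) B' := by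
    intro T
    obtain ⟨ι, hι, Y, f, hf, hY⟩ := hB T.left
    refine ⟨ι, hι, fun i => Over.mk (f i ≫ T.hom), fun i => Over.homMk (f i) rfl, ?_, hY⟩
    refine (J.over X).superset_covering ?_ (GrothendieckTopology.overEquiv_symm_mem_over J T _ hf)
    intro V g hg
    rw [Sieve.overEquiv_symm_iff] at hg
    obtain ⟨i, q, hq⟩ := (Sieve.mem_ofArrows_iff _ _ _).1 hg
    rw [Sieve.mem_ofArrows_iff]
    exact ⟨i, Over.homMk q (show q ≫ f i ≫ T.hom = V.hom by rw [← Category.assoc, ← hq]; exact Over.w g), Over.OverMorphism.ext hq⟩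
  obtain ⟨ι, hι, Y, f, hf, hY⟩ := hB' (Over.mk (𝟙 X))
  let cst : ι → Cell B' ⦋0⦌ := fun i => ⟨(Functor.const _).obj (Y i), fun _ => hY i⟩
  let V₀ := Set.range cst
  have hV₀ : V₀.Finite := Set.finite_range _
  refine ⟨finObj hB' V₀ hV₀, isHypercovering_of_fill J X _ (cover_of_vertex J X _ ⟨_, hf, fun V g hg => ?_⟩)
    (homFill_finObj hB' V₀ hV₀), fun n => ⟨finObj_finite _ _ _ _, fun i => finObj_mem hB' V₀ hV₀ i⟩⟩
  obtain ⟨i, q, -⟩ := (Sieve.mem_ofArrows_iff _ _ _).1 hg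
  refine ⟨FormalCoproduct.Hom.fromIncl ⟨cst i, ⟨0, cst i⟩, ⟨_, ⟨i, rfl⟩, rfl⟩, 𝟙 _, ?_⟩ q⟩
  show ((cellObj B').map (𝟙 (⦋0⦌ : SimplexCategory)).op).f _ = _
  rw [op_id, (cellObj B').map_id]
  rfl

end Groth.L19.Hyper
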